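import Groth.Agent.IntMultRegLib.Algebra
import Groth.Agent.EquidimLib.DimBetween
import Groth.Agent.SDivLib.Divisor
import Groth.Agent.WeilExtLib.Smooth
import Groth.Agent.UOpenLib.FibreDim
import Mathlib.RingTheory.KrullDimension.Regular

/-!
# Dimensions of local rings at the components of a proper intersection
-/

set_option autoImplicit false
set_option backward.isDefEq.respectTransparency false
set_option backward.isDefEq.respectTransparency.types false

universe u

open CategoryTheory AlgebraicGeometry TopologicalSpace Topology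
open EquidimLib (stalkPt dimBetween)
open UOpenLib (fibreClosureDim)

noncomputable section

namespace IntMultRegLib

variable {X : Scheme.{u}}

theorem stalkPt_mem_support_iff (I : X.IdealSheafData) (x : X) (p : PrimeSpectrum (X.presheaf.stalk x)) :
    stalkPt x p ∈ I.support ↔ IntMult.stalkIdeal I x ≤ p.asIdeal := by
  obtain ⟨U, hx⟩ := SDivLib.exists_affine x
  have hy : stalkPt x p ∈ U.1 := (EquidimLib.stalkPt_specializes x p).mem_open U.1.2 hx
  rw [SDivLib.mem_support_iff_le I U hy, SDivLib.stalkIdeal_eq I U hx, Ideal.map_le_iff_le_comap]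
  have h : SDivLib.prm U hy = Ideal.comap (X.presheaf.germ U.1 x hx).hom p.asIdeal := by
    refine congrArg PrimeSpectrum.asIdeal (a₂ := PrimeSpectrum.comap (X.presheaf.germ U.1 x hx).hom p)
      (U.2.fromSpec.isOpenEmbedding.injective ?_)
    rw [U.2.fromSpec_primeIdealOf]
    show (X.fromSpecStalk x).base p = _
    rw [← U.2.fromSpecStalk_eq_fromSpecStalk hx, IsAffineOpen.fromSpecStalk]
    rfl
  rw [h]

variable {K : Type u} [Field K] (f : X ⟶ Spec (CommRingCat.of K))

theorem fibreClosureDim_eq [LocallyOfFiniteType f] (z : X) :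
    fibreClosureDim f z = topologicalKrullDim ↥(closure ({z} : Set X)) := by
  haveI : Subsingleton (PrimeSpectrum K) := inferInstance
  rw [UOpenLib.fibreClosureDim_eq_inter f z]
  have h : closure ({z} : Set X) ∩ f.base ⁻¹' {f.base z} = closure {z} :=
    Set.inter_eq_left.2 fun v _ => @Subsingleton.elim (PrimeSpectrum K) _ (f.base v) (f.base z)
  rw [h]

theorem fibreClosureDim_add [LocallyOfFiniteType f] {z x : X} (h : z ⤳ x) :
    fibreClosureDim f z = fibreClosureDim f x + dimBetween z x :=
  EquidimLib.fibreClosureDim_eq_add f h (@Subsingleton.elim (PrimeSpectrum K) _ (f.base z) (f.base x))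

/-- The dimension of an integral closed subscheme, through a point. -/
theorem dim_support_eq [LocallyOfFiniteType f] (D : X.IdealSheafData) [IsIntegral D.subscheme] {ξ : X}
    (hξ : ξ ∈ D.support) :
    topologicalKrullDim ↥(D.support : Set X) =
      fibreClosureDim f ξ + ringKrullDim (↑(X.presheaf.stalk ξ) ⧸ IntMult.stalkIdeal D ξ) := by
  let η : X := D.subschemeι.base (genericPoint D.subscheme)
  have hcl : closure ({η} : Set X) = D.support := by
    rw [← Scheme.IdealSheafData.range_subschemeι, ← Set.image_univ, ← (genericPoint_spec D.subscheme).def,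
      ← D.subschemeι.isClosedEmbedding.closure_image_eq, Set.image_singleton]
  have hη : ∀ v : X, η ⤳ v ↔ v ∈ D.support := fun v => by
    rw [specializes_iff_mem_closure, hcl]; rfl
  rw [← hcl, ← fibreClosureDim_eq f η, fibreClosureDim_add f ((hη ξ).2 hξ)]
  congr 1
  refine (EquidimLib.dim_eq_of_range (i := stalkPt ξ ∘ PrimeSpectrum.comap (Ideal.Quotient.mk (IntMult.stalkIdeal D ξ)))
    ((EquidimLib.isInducing_stalkPt ξ).comp
      (PrimeSpectrum.isClosedEmbedding_comap_of_surjective _ _ Ideal.Quotient.mk_surjective).isInducing) ?_).symm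
  rw [Set.range_comp, EquidimLib.comap_mk_range]
  ext v
  constructor
  · rintro ⟨q, hq, rfl⟩
    exact ⟨(hη _).2 ((stalkPt_mem_support_iff D ξ q).2 hq), EquidimLib.stalkPt_specializes ξ q⟩
  · rintro ⟨h1, h2⟩
    obtain ⟨q, rfl⟩ := EquidimLib.exists_stalkPt h2
    exact ⟨q, (stalkPt_mem_support_iff D ξ q).1 ((hη _).1 h1), rfl⟩

/-- The dimension of an integral scheme, through a point. -/
theorem dim_eq [LocallyOfFiniteType f] [IsIntegral X] (ξ : X) :
    topologicalKrullDim X = fibreClosureDim f ξ + ringKrullDim (X.presheaf.stalk ξ) := by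
  have h : genericPoint X ⤳ ξ := (genericPoint_spec X).specializes trivial
  have hd : dimBetween (genericPoint X) ξ = ringKrullDim (X.presheaf.stalk ξ) := by
    rw [EquidimLib.stalk_dim_eq]
    exact congrArg (fun S : Set X => topologicalKrullDim ↥S)
      (Set.ext fun v => ⟨fun hv => hv.2, fun hv => ⟨(genericPoint_spec X).specializes trivial, hv⟩⟩)
  rw [← hd, ← fibreClosureDim_add f h, fibreClosureDim_eq f, (genericPoint_spec X).def]
  exact (IsHomeomorph.topologicalKrullDim_eq _ (Homeomorph.Set.univ X).isHomeomorph).symm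

/-- At a component of a proper intersection, the number of equations is at most the dimension of the other subscheme. -/
theorem le_dim_quotient [Smooth f] [IsIntegral X] (IV IW : X.IdealSheafData)
    [IsIntegral IV.subscheme] [IsIntegral IW.subscheme] (n r s : ℕ) (hn : topologicalKrullDim X = n)
    (hr : topologicalKrullDim IV.support = r) (hs : topologicalKrullDim IW.support = s)
    (hprop : IntMult.ProperInt (IV.support : Set X) (IW.support : Set X) n r s) (ξ : X)
    (hξV : ξ ∈ IV.support) (hξW : ξ ∈ IW.support) {c : ℕ} (g : Fin c → ↑(X.presheaf.stalk ξ))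
    (hg : IntMult.stalkIdeal IV ξ = Ideal.span (Set.range g))
    (hreg : RingTheory.Sequence.IsRegular (↑(X.presheaf.stalk ξ)) (List.ofFn g)) :
    (c : WithBot ℕ∞) ≤ ringKrullDim (↑(X.presheaf.stalk ξ) ⧸ IntMult.stalkIdeal IW ξ) := by
  haveI : IsLocallyNoetherian X := LocallyOfFiniteType.isLocallyNoetherian f
  obtain ⟨δ, hδ⟩ := UOpenLib.exists_fibreClosureDim_eq_nat f ξ
  obtain ⟨dR, hdR⟩ := EquidimLib.exists_stalk_dim_eq_nat ξ
  have hV := dim_support_eq f IV hξV
  have hW := dim_support_eq f IW hξW
  have hX := dim_eq f ξ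
  rw [hn, hδ, hdR] at hX
  rw [show topologicalKrullDim ↥(IV.support : Set X) = r from hr, hδ] at hV
  rw [show topologicalKrullDim ↥(IW.support : Set X) = s from hs, hδ] at hW
  have hI := ringKrullDim_add_length_eq_ringKrullDim_of_isRegular _ hreg
  rw [List.length_ofFn, show Ideal.ofList (List.ofFn g) = IntMult.stalkIdeal IV ξ by
    rw [hg, ← Groth.Agent.KoszChiLib.Idl_ofFn g], hdR] at hI
  obtain ⟨h1, h2⟩ := hprop ⟨ξ, hξV, hξW⟩
  have h3 : (δ : WithBot ℕ∞) ≤ ((r + s - n : ℕ) : WithBot ℕ∞) := by
    rw [← hδ, fibreClosureDim_eq f]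
    exact le_trans (IsInducing.topologicalKrullDim_le (IsEmbedding.inclusion
      (closure_minimal (Set.singleton_subset_iff.2 (Set.mem_inter hξV hξW))
        (IV.support.isClosed.inter IW.support.isClosed))).isInducing) h2
  generalize hA : ringKrullDim (↑(X.presheaf.stalk ξ) ⧸ IntMult.stalkIdeal IV ξ) = a at hV hI
  generalize hB : ringKrullDim (↑(X.presheaf.stalk ξ) ⧸ IntMult.stalkIdeal IW ξ) = b at hW ⊢
  cases a with
  | bot => simp at hV
  | coe a =>
    cases b with
    | bot => simp at hW
    | coe b =>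
      cases a with
      | top => exact absurd hV (by norm_cast; simp)
      | coe a =>
        cases b with
        | top => exact le_top
        | coe b =>
          norm_cast at hV hW hX hI h3 ⊢
          omega

/-- The primes over both ideals at a component of the intersection. -/
theorem isMaximal_of_le (IV IW : X.IdealSheafData) (ξ : X)
    (hmax : ∀ ξ' : X, ξ' ∈ IV.support → ξ' ∈ IW.support → ξ' ⤳ ξ → ξ' = ξ)
    (p : PrimeSpectrum (X.presheaf.stalk ξ))
    (hp : IntMult.stalkIdeal IW ξ ⊔ IntMult.stalkIdeal IV ξ ≤ p.asIdeal) : p.asIdeal.IsMaximal := by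
  have h := hmax _ ((stalkPt_mem_support_iff IV ξ p).2 (le_sup_right.trans hp))
    ((stalkPt_mem_support_iff IW ξ p).2 (le_sup_left.trans hp)) (EquidimLib.stalkPt_specializes ξ p)
  obtain rfl : p = IsLocalRing.closedPoint (X.presheaf.stalk ξ) :=
    EquidimLib.stalkPt_injective ξ (h.trans Scheme.fromSpecStalk_closedPoint.symm)
  exact IsLocalRing.maximalIdeal.isMaximal _

theorem le_maximalIdeal_of_mem (I : X.IdealSheafData) {ξ : X} (h : ξ ∈ I.support) :
    IntMult.stalkIdeal I ξ ≤ IsLocalRing.maximalIdeal _ :=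
  IsLocalRing.le_maximalIdeal ((SDivLib.mem_support_iff_stalk I ξ).1 h)

end IntMultRegLib
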