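import Groth.Agent.IntMultRegLib.Additive
import Mathlib.RingTheory.Ideal.AssociatedPrime.Finiteness
import Mathlib.Algebra.Module.LocalizedModule.Exact

/-!
# Dévissage of the intersection number
-/

set_option autoImplicit false
set_option backward.isDefEq.respectTransparency false
set_option backward.isDefEq.respectTransparency.types false
set_option linter.style.haveILetI false

universe u

noncomputable section

namespace IntMultRegLib

variable {R : Type u} [CommRing R]

/-- The length of a localized module. -/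
def lenAt (p : PrimeSpectrum R) (M : Type u) [AddCommGroup M] [Module R M] : ℕ∞ :=
  Module.length (Localization.AtPrime p.asIdeal) (LocalizedModule p.asIdeal.primeCompl M)

theorem lenAt_congr (p : PrimeSpectrum R) {M N : Type u} [AddCommGroup M] [Module R M] [AddCommGroup N] [Module R N]
    (e : M ≃ₗ[R] N) : lenAt p M = lenAt p N :=
  LinearEquiv.length_eq (LinearEquiv.ofBijective (LocalizedModule.map p.asIdeal.primeCompl e.toLinearMap)
    ⟨LocalizedModule.map_injective _ _ e.injective, LocalizedModule.map_surjective _ _ e.surjective⟩)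

theorem lenAt_add (p : PrimeSpectrum R) {M₁ M₂ M₃ : Type u} [AddCommGroup M₁] [Module R M₁]
    [AddCommGroup M₂] [Module R M₂] [AddCommGroup M₃] [Module R M₃] (f : M₁ →ₗ[R] M₂) (g : M₂ →ₗ[R] M₃)
    (hf : Function.Injective f) (hg : Function.Surjective g) (he : Function.Exact f g) :
    lenAt p M₂ = lenAt p M₁ + lenAt p M₃ :=
  Module.length_eq_add_of_exact (LocalizedModule.map p.asIdeal.primeCompl f) (LocalizedModule.map p.asIdeal.primeCompl g)
    (LocalizedModule.map_injective _ f hf) (LocalizedModule.map_surjective _ g hg)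
    (LocalizedModule.map_exact p.asIdeal.primeCompl f g he)

theorem lenAt_quotient_self (p : PrimeSpectrum R) : lenAt p (R ⧸ p.asIdeal) = 1 := by
  let L := Localization.AtPrime p.asIdeal
  let e : LocalizedModule p.asIdeal.primeCompl (R ⧸ p.asIdeal) ≃ₗ[L] (L ⧸ p.asIdeal.map (algebraMap R L)) :=
    (LocalizedModule.equivTensorProduct p.asIdeal.primeCompl (R ⧸ p.asIdeal)).trans
      (Ideal.qoutMapEquivTensorQout L).symm
  rw [lenAt, e.length_eq, Localization.AtPrime.map_eq_maximalIdeal, Module.length_eq_one_iff, isSimpleModule_iff_isCoatom]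
  exact (IsLocalRing.maximalIdeal.isMaximal L).out

theorem lenAt_eq_zero_of_not_le (p : PrimeSpectrum R) (M : Type u) [AddCommGroup M] [Module R M] [Module.Finite R M]
    (h : ¬ Module.annihilator R M ≤ p.asIdeal) : lenAt p M = 0 := by
  rw [lenAt, Module.length_eq_zero_iff]
  exact Module.notMem_support_iff.1 (fun hm => h (Module.mem_support_iff_of_finite.1 hm))

variable [IsNoetherianRing R]

theorem lenAt_ne_top (p : PrimeSpectrum R) (M : Type u) [AddCommGroup M] [Module R M] [Module.Finite R M]
    (hmin : ∀ q : PrimeSpectrum R, Module.annihilator R M ≤ q.asIdeal → q.asIdeal ≤ p.asIdeal → q = p) :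
    lenAt p M ≠ ⊤ := by
  let L := Localization.AtPrime p.asIdeal
  let I := (Module.annihilator R M).map (algebraMap R L)
  let Mp := LocalizedModule p.asIdeal.primeCompl M
  have hann : I ≤ Module.annihilator L Mp := Ideal.map_le_iff_le_comap.2 fun a ha =>
    Module.mem_annihilator.2 fun x => by
      induction x using LocalizedModule.induction_on with
      | h m s =>
        rw [algebraMap_smul, LocalizedModule.smul'_mk, Module.mem_annihilator.1 ha, LocalizedModule.zero_mk]
  haveI : Module.Finite L Mp := Module.Finite.of_isLocalizedModule p.asIdeal.primeCompl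
    (LocalizedModule.mkLinearMap p.asIdeal.primeCompl M)
  let e := Submodule.quotEquivOfEqBot (I • (⊤ : Submodule L Mp))
    (eq_bot_iff.2 (Submodule.smul_le.2 fun a ha y _ => (Submodule.mem_bot L).2 (Module.mem_annihilator.1 (hann ha) y)))
  show Module.length L Mp ≠ ⊤
  rw [← e.length_eq]
  refine CommAlgDim.length_quotient_smul_ne_top fun q _ hqI => ?_
  have hqp : q.asIdeal.comap (algebraMap R L) ≤ p.asIdeal :=
    (Ideal.comap_mono (IsLocalRing.le_maximalIdeal q.isPrime.ne_top)).trans
      (IsLocalization.AtPrime.under_maximalIdeal (R := R) (I := p.asIdeal) L).le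
  have h := hmin ⟨q.asIdeal.comap (algebraMap R L), Ideal.comap_isPrime _ _⟩ (Ideal.map_le_iff_le_comap.1 hqI) hqp
  have h' : q.asIdeal.comap (algebraMap R L) = p.asIdeal := congrArg PrimeSpectrum.asIdeal h
  rw [← IsLocalization.map_comap p.asIdeal.primeCompl L q.asIdeal]
  show (Ideal.map (algebraMap R L) (q.asIdeal.comap (algebraMap R L))).IsMaximal
  rw [h', Localization.AtPrime.map_eq_maximalIdeal]
  exact IsLocalRing.maximalIdeal.isMaximal L

variable [IsLocalRing R] [IsRegularLocalRing R]

theorem chi_congr {M M' N : Type u} [AddCommGroup M] [Module R M] [AddCommGroup M'] [Module R M']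
    [AddCommGroup N] [Module R N] (e : M ≃ₗ[R] M') : IntMult.chi R M N = IntMult.chi R M' N :=
  finsum_congr fun i => by
    obtain ⟨f⟩ := (⟨((((CategoryTheory.Tor (ModuleCat.{u} R) i).mapIso e.toModuleIso).app (ModuleCat.of R N))
      ).toLinearEquiv⟩ : Nonempty (DRing.Tor R i M N ≃ₗ[R] DRing.Tor R i M' N))
    rw [f.length_eq]

/-- The intersection number, from the primes of a closed set containing the support. -/
theorem chi_eq_sum (N : Type u) [AddCommGroup N] [Module R N] [Module.Finite R N] (I₀ : Ideal R)
    (hmeet : ∀ p : PrimeSpectrum R, I₀ ⊔ Module.annihilator R N ≤ p.asIdeal → p.asIdeal.IsMaximal)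
    (T : Finset (PrimeSpectrum R))
    (hT : ∀ P ∈ T, ∀ Q : PrimeSpectrum R, I₀ ≤ Q.asIdeal → Q.asIdeal ≤ P.asIdeal → Q = P)
    (hzero : ∀ Q : PrimeSpectrum R, I₀ ≤ Q.asIdeal → Q ∉ T → IntMult.chi R (R ⧸ Q.asIdeal) N = 0)
    (M : Type u) [AddCommGroup M] [Module R M] [Module.Finite R M]
    (hM : ∀ p : PrimeSpectrum R, Module.annihilator R M ≤ p.asIdeal → I₀ ≤ p.asIdeal) :
    IntMult.chi R M N = ∑ P ∈ T, ((lenAt P M).toNat : ℤ) * IntMult.chi R (R ⧸ P.asIdeal) N := by
  classical
  revert hM
  refine IsNoetherianRing.induction_on_isQuotientEquivQuotientPrime (A := R) (M := M) inferInstance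
    (motive := fun (N' : Type u) [AddCommGroup N'] [Module R N'] [Module.Finite R N'] =>
      (∀ p : PrimeSpectrum R, Module.annihilator R N' ≤ p.asIdeal → I₀ ≤ p.asIdeal) →
      IntMult.chi R N' N = ∑ P ∈ T, ((lenAt P N').toNat : ℤ) * IntMult.chi R (R ⧸ P.asIdeal) N) ?_ ?_ ?_
  · intro L _ _ _ _ _
    have h0 : IntMult.chi R L N = 0 := finsum_eq_zero_of_forall_eq_zero fun i => by
      haveI := finite_tor (R := R) N i L
      haveI : Subsingleton (DRing.Tor R i L N) := subsingleton_of_forall_eq 0 fun y => by
        have h1 : (1 : R) ∈ Module.annihilator R L := Module.mem_annihilator.2 fun x => Subsingleton.elim _ _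
        simpa using Module.mem_annihilator.1 (tor_killed L N i (Ideal.mem_sup_left h1)) y
      rw [Module.length_eq_zero, ENat.toNat_zero, Nat.cast_zero, mul_zero]
    rw [h0]
    refine (Finset.sum_eq_zero fun P _ => ?_).symm
    rw [lenAt_eq_zero_of_not_le P L fun hle => P.isPrime.ne_top ((Ideal.eq_top_iff_one _).2
      (hle (Module.mem_annihilator.2 fun x => Subsingleton.elim _ _))), ENat.toNat_zero, Nat.cast_zero, zero_mul]
  · intro L _ _ _ Q e hL
    have hann : Module.annihilator R L = Q.asIdeal := by rw [e.annihilator_eq, Ideal.annihilator_quotient]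
    have hQ : I₀ ≤ Q.asIdeal := hL Q hann.le
    rw [chi_congr e]
    have hlen : ∀ P ∈ T, lenAt P L = if P = Q then 1 else 0 := fun P hP => by
      rw [lenAt_congr P e]
      split_ifs with h
      · rw [h]; exact lenAt_quotient_self Q
      · refine lenAt_eq_zero_of_not_le P _ fun hle => h ?_
        rw [Ideal.annihilator_quotient] at hle
        exact (hT P hP Q hQ hle).symm
    rw [Finset.sum_congr rfl fun P hP => by rw [hlen P hP]]
    by_cases hQT : Q ∈ T
    · rw [Finset.sum_eq_single Q (fun P _ hne => by simp [hne]) (fun h => absurd hQT h)]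
      simp
    · rw [hzero Q hQ hQT]
      refine (Finset.sum_eq_zero fun P hP => ?_).symm
      rw [if_neg (fun h : P = Q => hQT (h ▸ hP))]
      simp
  · intro M₁ _ _ _ M₂ _ _ _ M₃ _ _ _ f g hf hg he h₁ h₃ hM₂
    have hmeet₂ : Meet (R := R) M₂ N := fun p hp =>
      hmeet p (sup_le (hM₂ p (le_sup_left.trans hp)) (le_sup_right.trans hp))
    have a₁ : Module.annihilator R M₂ ≤ Module.annihilator R M₁ := fun r hr => Module.mem_annihilator.2 fun x => hf (by
      rw [map_smul, Module.mem_annihilator.1 hr, map_zero])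
    have a₃ : Module.annihilator R M₂ ≤ Module.annihilator R M₃ := fun r hr => Module.mem_annihilator.2 fun x => by
      obtain ⟨x, rfl⟩ := hg x
      rw [← map_smul, Module.mem_annihilator.1 hr, map_zero]
    rw [chi_additive f g hf hg he hmeet₂, h₁ (fun p hp => hM₂ p (a₁.trans hp)), h₃ (fun p hp => hM₂ p (a₃.trans hp)),
      ← Finset.sum_add_distrib]
    refine Finset.sum_congr rfl fun P hP => ?_
    have htop : ∀ (L : Type u) [AddCommGroup L] [Module R L] [Module.Finite R L],
        Module.annihilator R M₂ ≤ Module.annihilator R L → lenAt P L ≠ ⊤ := fun L _ _ _ hle =>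
      lenAt_ne_top P L fun q hq hqP => hT P hP q (hM₂ q (hle.trans hq)) hqP
    rw [lenAt_add P f g hf hg he, ENat.toNat_add (htop M₁ a₁) (htop M₃ a₃)]
    push_cast
    ring

end IntMultRegLib
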