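import Groth.Agent.KoszTorLib.Basic
import Groth.Agent.S8154
import Groth.Agent.S15821
import Groth.Agent.CommAlgDim.GlobalDim
import Groth.Agent.CommAlgDim.CM
import Mathlib.RingTheory.Regular.RegularSequence

/-!
# Local algebra of intersections with a regularly embedded subscheme
-/

set_option autoImplicit false
set_option backward.isDefEq.respectTransparency false
set_option backward.isDefEq.respectTransparency.types false

universe u

open CategoryTheory CategoryTheory.Limits MonoidalCategory HomologicalComplex KFlatLib Groth.Agent.DRingLib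
open Groth.Agent.KoszChiLib (Idl H ell)
open Filter Topology

namespace IntMultRegLib

variable {R : Type u} [CommRing R]

/-- `Tor` is symmetric. -/
theorem length_tor_comm (M N : Type u) [AddCommGroup M] [Module R M] [AddCommGroup N] [Module R N] (q : ℕ) :
    Module.length R (DRing.Tor R q M N) = Module.length R (DRing.Tor R q N M) := by
  rcases Nat.eq_zero_or_pos q with rfl | hq
  · obtain ⟨e⟩ := TorShiftLib.nonempty_tor_zero (R := R) (N := N) M
    obtain ⟨e'⟩ := TorShiftLib.nonempty_tor_zero (R := R) (N := M) N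
    rw [e.length_eq, e'.length_eq, (TensorProduct.comm R M N).length_eq]
  · obtain ⟨q, rfl⟩ := Nat.exists_eq_add_one.2 hq
    let P := projectiveResolution (ModuleCat.of R M)
    let Q := projectiveResolution (ModuleCat.of R N)
    obtain ⟨eb⟩ := KoszTorLib.nonempty_balance (isKFlat_projectiveResolution P) P.π' Q (-((q + 1 : ℕ) : ℤ))
    obtain ⟨ec⟩ := KoszTorLib.nonempty_cochain_homology (tensorLeft (ModuleCat.of R M)) Q q
    obtain ⟨ed⟩ := KoszTorLib.nonempty_cochain_homology (tensorLeft (ModuleCat.of R N)) P q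
    let et := (Q.isoLeftDerivedObj (tensorLeft (ModuleCat.of R M)) (q + 1)).symm
    let es := (P.isoLeftDerivedObj (tensorLeft (ModuleCat.of R N)) (q + 1)).symm
    let ef := (homologyFunctor (ModuleCat.{u} R) (ComplexShape.up ℤ) (-((q + 1 : ℕ) : ℤ))).mapIso
      ((NatIso.mapHomologicalComplex (BraidedCategory.tensorLeftIsoTensorRight (ModuleCat.of R N))
        (ComplexShape.up ℤ)).app P.cochainComplex)
    exact ((eb ≪≫ ec ≪≫ et).symm ≪≫ ef.symm ≪≫ ed ≪≫ es).toLinearEquiv.length_eq

/-- `IntMult.chi` is symmetric. -/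
theorem chi_comm (M N : Type u) [AddCommGroup M] [Module R M] [AddCommGroup N] [Module R N] :
    IntMult.chi R M N = IntMult.chi R N M :=
  finsum_congr fun q => by rw [length_tor_comm M N q]

/-- `Tor` vanishes above the projective dimension. -/
theorem subsingleton_tor_of_pdlt (N : Type u) [AddCommGroup N] [Module R N] :
    ∀ (k : ℕ) (M : Type u) [AddCommGroup M] [Module R M], CommAlgDim.PDLT R M (k + 1) →
      ∀ p, k < p → Subsingleton (DRing.Tor R p M N) := by
  intro k
  induction k with
  | zero =>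
    intro M _ _ h p hp
    haveI : Module.Projective R M := CommAlgDim.pdlt_one_iff.1 h
    exact ModuleCat.subsingleton_of_isZero (TorSESLib.isZero_tor_of_flat (ModuleCat.of R N) (ModuleCat.of R M) hp)
  | succ k ih =>
    intro M _ _ h p hp
    let π : (M →₀ R) →ₗ[R] M := Finsupp.linearCombination R id
    have hπ : Function.Surjective π := fun m => ⟨Finsupp.single m 1, by simp [π]⟩
    have hK : CommAlgDim.PDLT R (LinearMap.ker π) (k + 1) := (CommAlgDim.pdlt_ker_iff π hπ k).1 h
    obtain ⟨r, rfl⟩ : ∃ r, p = r + 2 := ⟨p - 2, by omega⟩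
    have he : Function.Exact (LinearMap.ker π).subtype π := fun m =>
      ⟨fun h => ⟨⟨m, h⟩, rfl⟩, fun ⟨y, hy⟩ => hy ▸ y.2⟩
    let ι : LinearMap.ker π →ₗ[R] (M →₀ R) := Submodule.subtype _
    have hι : Function.Injective ι := Submodule.subtype_injective _
    haveI hF : Module.Flat R (M →₀ R) := inferInstance
    obtain ⟨e⟩ := @TorShiftLib.nonempty_shift_succ R _ (LinearMap.ker π) (M →₀ R) M _ _ _ _ hF _ _ ι π hι hπ he N _ _ r
    haveI := ih _ hK (r + 1) (by omega)
    exact e.toEquiv.subsingleton

variable [IsLocalRing R] [IsNoetherianRing R]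

/-- Koszul homology of a regular sequence on a module vanishes off degree zero. -/
theorem H_eq_zero_of_regular : ∀ (l : List R) (M : ModuleCat.{u} R),
    RingTheory.Sequence.IsWeaklyRegular M l.reverse → ∀ i, i ≠ 0 → Subsingleton (H l M i)
  | [], M, _, i, hi => Groth.Agent.KoszChiLib.H_eq_zero _ M i (by simp; omega)
  | x :: l, M, h, i, hi => by
    rw [List.reverse_cons, RingTheory.Sequence.isWeaklyRegular_append_iff] at h
    rcases lt_or_gt_of_ne hi with hlt | hgt
    · obtain ⟨g, k, -, h2, h3⟩ := Groth.Agent.KoszChiLib.five x l M i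
      haveI := H_eq_zero_of_regular l M h.1 i hlt.ne
      have hk0 : ∀ y, k y = 0 := fun y => by
        rcases eq_or_ne (i + 1) 0 with h0 | h0
        · have hker := (h3 (k y)).2 ⟨y, rfl⟩
          have hreg : Function.Injective (x • LinearMap.id : H l M (i + 1) →ₗ[R] H l M (i + 1)) := by
            rw [h0]
            obtain ⟨π, hπ, hπker⟩ := LechLib.exists_H_zero l M
            let e := (Submodule.quotEquivOfEq _ _ hπker.symm).trans (LinearMap.quotKerEquivOfSurjective π hπ)
            have hx := ((RingTheory.Sequence.isWeaklyRegular_cons_iff _ x []).1 h.2).1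
            intro a b hab
            refine e.symm.injective ?_
            have h1 : e.symm (x • a) = e.symm (x • b) := congrArg e.symm hab
            rw [map_smul, map_smul] at h1
            have hI : Ideal.ofList l.reverse = Idl l := by
              rw [Ideal.ofList, Idl]; congr 1; ext; simp
            have hx' : IsSMulRegular (M ⧸ Idl l • (⊤ : Submodule R M)) x := hI ▸ hx
            exact hx' h1
          exact hreg (hker.trans (map_zero _).symm)
        · haveI := H_eq_zero_of_regular l M h.1 (i + 1) h0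
          exact Subsingleton.elim _ _
      refine subsingleton_of_forall_eq 0 fun y => ?_
      obtain ⟨z, rfl⟩ := (h2 y).1 (hk0 y)
      rw [Subsingleton.elim z 0, map_zero]
    · exact Groth.Agent.KoszChiLib.H_eq_zero _ M i (Or.inl hgt)

/-- The intersection number against a regular sequence. -/
theorem chi_eq_koszul {c : ℕ} (g : Fin c → R) (hreg : RingTheory.Sequence.IsWeaklyRegular R (List.ofFn g))
    (M : Type u) [AddCommGroup M] [Module R M] :
    IntMult.chi R M (R ⧸ Ideal.span (Set.range g)) = Groth.Agent.KoszChiLib.chi (List.ofFn g) (ModuleCat.of R M) := by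
  rw [chi_comm, ← Groth.Agent.KoszChiLib.Idl_ofFn g,
    KoszTorLib.chi_eq _ (Groth.Agent.S15821.result R _ hreg).1]

theorem length_quotient_quotient (I J : Ideal R) :
    Module.length R ((R ⧸ J) ⧸ I • (⊤ : Submodule R (R ⧸ J))) = Module.length R (R ⧸ (J ⊔ I)) := by
  let f : R →ₗ[R] ((R ⧸ J) ⧸ I • (⊤ : Submodule R (R ⧸ J))) := Submodule.mkQ _ ∘ₗ Submodule.mkQ J
  have hf : Function.Surjective f := (Submodule.mkQ_surjective _).comp (Submodule.mkQ_surjective _)
  have hk : LinearMap.ker f = J ⊔ I := by
    have htop : (⊤ : Submodule R (R ⧸ J)) = (⊤ : Submodule R R).map (Submodule.mkQ J) := by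
      rw [Submodule.map_top, Submodule.range_mkQ]
    rw [LinearMap.ker_comp, Submodule.ker_mkQ, htop, ← Submodule.map_smul'', Submodule.comap_map_mkQ,
      show (I • (⊤ : Submodule R R) : Submodule R R) = I from Ideal.mul_top I]
  exact ((Submodule.quotEquivOfEq _ _ hk.symm).trans (LinearMap.quotKerEquivOfSurjective f hf)).symm.length_eq

/-- With a regular sequence on the module, the intersection number is a length. -/
theorem chi_eq_length {c : ℕ} (g : Fin c → R) (hreg : RingTheory.Sequence.IsWeaklyRegular R (List.ofFn g))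
    (J : Ideal R) (hM : RingTheory.Sequence.IsWeaklyRegular (R ⧸ J) (List.ofFn g).reverse) :
    IntMult.chi R (R ⧸ J) (R ⧸ Ideal.span (Set.range g)) =
      ((Module.length R (R ⧸ (J ⊔ Ideal.span (Set.range g)))).toNat : ℤ) := by
  rw [chi_eq_koszul g hreg, Groth.Agent.KoszChiLib.chi, finsum_eq_single _ (0 : ℤ) fun i hi => by
    haveI := H_eq_zero_of_regular _ (ModuleCat.of R (R ⧸ J)) hM i hi
    rw [Groth.Agent.KoszChiLib.ell_eq_zero_of_subsingleton, mul_zero]]
  obtain ⟨π, hπ, hker⟩ := LechLib.exists_H_zero (List.ofFn g) (ModuleCat.of R (R ⧸ J))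
  rw [Groth.Agent.KoszChiLib.Idl_ofFn] at hker
  simp only [Groth.Agent.KoszChiLib.sgn, Int.negOnePow_zero, Units.val_one, one_mul]
  show ((Module.length R (H _ _ 0)).toNat : ℤ) = _
  rw [← ((Submodule.quotEquivOfEq _ _ hker.symm).trans (LinearMap.quotKerEquivOfSurjective π hπ)).length_eq,
    ← length_quotient_quotient]

/-- The finite length hypothesis, from the primes over the sum. -/
theorem isFiniteLength_of_primes (I J : Ideal R)
    (hprimes : ∀ p : PrimeSpectrum R, J ⊔ I ≤ p.asIdeal → p.asIdeal.IsMaximal) :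
    IsFiniteLength R ((R ⧸ J) ⧸ I • (⊤ : Submodule R (R ⧸ J))) := by
  rw [← Module.length_ne_top_iff]
  refine CommAlgDim.length_quotient_smul_ne_top fun p hp hpI => hprimes p (sup_le ?_ hpI)
  rw [Module.mem_support_iff_of_finite, Ideal.annihilator_quotient] at hp
  exact hp

/-- The intersection number is the positive Samuel multiplicity. -/
theorem tendsto_and_pos {c : ℕ} (g : Fin c → R) (hg : ∀ i, g i ∈ IsLocalRing.maximalIdeal R)
    (hreg : RingTheory.Sequence.IsWeaklyRegular R (List.ofFn g)) (J : Ideal R) (hdim : (c : WithBot ℕ∞) ≤ ringKrullDim (R ⧸ J))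
    (hprimes : ∀ p : PrimeSpectrum R, J ⊔ Ideal.span (Set.range g) ≤ p.asIdeal → p.asIdeal.IsMaximal) :
    Tendsto (fun t : ℕ => (c.factorial : ℝ) *
        ((Module.length R (R ⧸ (J ⊔ Ideal.span (Set.range g) ^ t))).toNat : ℝ) / (t : ℝ) ^ c)
      atTop (𝓝 (IntMult.chi R (R ⧸ J) (R ⧸ Ideal.span (Set.range g)) : ℝ)) ∧
      0 < IntMult.chi R (R ⧸ J) (R ⧸ Ideal.span (Set.range g)) := by
  have hfl := isFiniteLength_of_primes _ J hprimes
  rw [chi_eq_koszul g hreg]
  constructor
  · obtain ⟨e, he1, he2⟩ := LechLib.exists_limit g (Module.length_ne_top_iff.2 hfl)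
    have h := tendsto_nhds_unique he2 (LechLib.tendsto_chi c g (R ⧸ J) hfl)
    have h2 := he1.const_mul (c.factorial : ℝ)
    rw [mul_div_cancel₀ _ (by exact_mod_cast c.factorial_ne_zero), h] at h2
    refine h2.congr fun t => ?_
    rw [mul_div_assoc, ← length_quotient_quotient]
    rfl
  · refine Groth.Agent.S8154.result R c g hg (R ⧸ J) hfl (le_antisymm ?_ ?_)
    · have h := Groth.Agent.KoszChiLib.supportDim_le_length (List.ofFn g)
        (fun a ha => by obtain ⟨i, rfl⟩ := List.mem_ofFn.1 ha; exact hg i) (ModuleCat.of R (R ⧸ J))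
        (Groth.Agent.KoszChiLib.fl_of_finLen (Groth.Agent.KoszChiLib.Idl_ofFn g).symm hfl)
      simpa using h
    · rwa [Module.supportDim_quotient_eq_ringKrullDim]

/-- In the Cohen–Macaulay case the sequence is regular on the quotient. -/
theorem isWeaklyRegular_of_CM {c : ℕ} (g : Fin c → R) (hg : ∀ i, g i ∈ IsLocalRing.maximalIdeal R) (J : Ideal R)
    [IsLocalRing (R ⧸ J)] (hJ : CommAlgDim.IsCM (R ⧸ J)) (hdim : (c : WithBot ℕ∞) ≤ ringKrullDim (R ⧸ J))
    (hprimes : ∀ p : PrimeSpectrum R, J ⊔ Ideal.span (Set.range g) ≤ p.asIdeal → p.asIdeal.IsMaximal) :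
    RingTheory.Sequence.IsWeaklyRegular (R ⧸ J) (List.ofFn g).reverse := by
  rw [← RingTheory.Sequence.isWeaklyRegular_map_algebraMap_iff (R := R) (S := R ⧸ J) (R ⧸ J)]
  refine (CommAlgDim.isRegular_of_dim hJ (fun r hr => ?_) ?_).toIsWeaklyRegular
  · simp only [List.mem_map, List.mem_reverse, List.mem_ofFn] at hr
    obtain ⟨_, ⟨i, rfl⟩, rfl⟩ := hr
    haveI : IsLocalHom (Ideal.Quotient.mk J) := IsLocalHom.of_surjective _ Ideal.Quotient.mk_surjective
    exact map_nonunit _ _ (hg i)
  · set L := Ideal.ofList ((List.ofFn g).reverse.map (algebraMap R (R ⧸ J)))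
    have hL : L = (Ideal.span (Set.range g)).map (Ideal.Quotient.mk J) := by
      rw [Ideal.map_span]
      simp only [L, Ideal.ofList]
      congr 1
      ext y
      simp [List.mem_ofFn, Ideal.Quotient.algebraMap_eq]
    let φ : R →+* (R ⧸ J) ⧸ L := (Ideal.Quotient.mk L).comp (Ideal.Quotient.mk J)
    have hφ : Function.Surjective φ := Ideal.Quotient.mk_surjective.comp Ideal.Quotient.mk_surjective
    haveI : Ring.KrullDimLE 0 ((R ⧸ J) ⧸ L) := Ring.krullDimLE_zero_iff.2 fun q hq => by
      have hq' : (q.comap φ).IsMaximal := by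
        refine hprimes ⟨q.comap φ, Ideal.comap_isPrime φ q⟩ (sup_le (fun y hy => ?_) (fun y hy => ?_))
        · show Ideal.Quotient.mk L (Ideal.Quotient.mk J y) ∈ q
          rw [Ideal.Quotient.eq_zero_iff_mem.2 hy, map_zero]; exact zero_mem _
        · show Ideal.Quotient.mk L (Ideal.Quotient.mk J y) ∈ q
          rw [Ideal.Quotient.eq_zero_iff_mem.2 (hL ▸ Ideal.mem_map_of_mem _ hy)]; exact zero_mem _
      rw [← Ideal.map_comap_of_surjective φ hφ q]
      haveI := hq'
      exact Ideal.IsMaximal.map_of_surjective_of_ker_le hφ (Ideal.comap_mono bot_le)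
    have h0 : ringKrullDim ((R ⧸ J) ⧸ L) ≤ 0 := by
      simpa using (Ring.krullDimLE_iff.1 (inferInstance : Ring.KrullDimLE 0 ((R ⧸ J) ⧸ L)))
    refine le_trans (add_le_add h0 le_rfl) ?_
    rw [zero_add]
    simpa using hdim

end IntMultRegLib
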