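import Groth.Prelude.Def_IntMult
import Groth.Agent.IntMultRegLib.Algebra
import Groth.Agent.TorShiftLib.Basic
import Mathlib.RingTheory.Flat.Equalizer
import Mathlib.RingTheory.LocalRing.Length

/-!
# Flat base change of `Tor` and of the intersection multiplicity
-/

set_option autoImplicit false
set_option backward.isDefEq.respectTransparency false
set_option backward.isDefEq.respectTransparency.types false
set_option linter.style.haveILetI false

universe u

open CategoryTheory TensorProduct

noncomputable section

namespace IntMultRegLib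

variable {A : Type u} [CommRing A] (B : Type u) [CommRing B] [Algebra A B]

theorem distrib_natural {X₁ X₂ N : Type u} [AddCommGroup X₁] [Module A X₁] [AddCommGroup X₂] [Module A X₂]
    [AddCommGroup N] [Module A N] (f : X₁ →ₗ[A] X₂) (z : B ⊗[A] (X₁ ⊗[A] N)) :
    AlgebraTensorModule.distribBaseChange A B X₂ N ((f.rTensor N).baseChange B z) =
      (f.baseChange B).rTensor (B ⊗[A] N) (AlgebraTensorModule.distribBaseChange A B X₁ N z) := by
  induction z using TensorProduct.induction_on with
  | zero => simp
  | add x y hx hy => simp only [map_add, hx, hy]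
  | tmul b w =>
    induction w using TensorProduct.induction_on with
    | zero => simp
    | add x y hx hy => simp only [TensorProduct.tmul_add, map_add, hx, hy]
    | tmul x n => simp

variable [Module.Flat A B]

theorem nonempty_tor_baseChange (N : Type u) [AddCommGroup N] [Module A N] :
    ∀ (i : ℕ) (M : Type u) [AddCommGroup M] [Module A M],
      Nonempty ((B ⊗[A] DRing.Tor A i M N) ≃ₗ[B] DRing.Tor B i (B ⊗[A] M) (B ⊗[A] N)) := by
  intro i
  induction i with
  | zero =>
    intro M _ _
    obtain ⟨e⟩ := TorShiftLib.nonempty_tor_zero (R := A) (N := N) M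
    obtain ⟨e'⟩ := TorShiftLib.nonempty_tor_zero (R := B) (N := B ⊗[A] N) (B ⊗[A] M)
    exact ⟨(e.baseChange A B).trans ((AlgebraTensorModule.distribBaseChange A B M N).trans e'.symm)⟩
  | succ i ih =>
    intro M _ _
    obtain ⟨F, _, _, _, g, hg⟩ : ∃ (F : Type u) (_ : AddCommGroup F) (_ : Module A F) (_ : Module.Free A F)
        (g : F →ₗ[A] M), Function.Surjective g :=
      ⟨M →₀ A, inferInstance, inferInstance, inferInstance, Finsupp.linearCombination A id,
        fun m => ⟨Finsupp.single m 1, by simp⟩⟩
    obtain ⟨L, _, _, f, hf, he⟩ : ∃ (L : Type u) (_ : AddCommGroup L) (_ : Module A L) (f : L →ₗ[A] F),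
        Function.Injective f ∧ Function.Exact f g :=
      ⟨LinearMap.ker g, inferInstance, inferInstance, Submodule.subtype _, Submodule.subtype_injective _,
        LinearMap.exact_subtype_ker_map g⟩
    have hf' : Function.Injective (f.baseChange B) :=
      Module.Flat.lTensor_preserves_injective_linearMap f hf
    have hg' : Function.Surjective (g.baseChange B) := LinearMap.lTensor_surjective B hg
    have he' : Function.Exact (f.baseChange B) (g.baseChange B) := by
      show Function.Exact (f.lTensor B) (g.lTensor B)
      exact lTensor_exact B he hg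
    rcases i with _ | i
    · obtain ⟨e1⟩ := TorShiftLib.nonempty_shift_one f g hf hg he N
      obtain ⟨e2⟩ := TorShiftLib.nonempty_shift_one (f.baseChange B) (g.baseChange B) hf' hg' he' (B ⊗[A] N)
      let d₁ := AlgebraTensorModule.distribBaseChange A B L N
      have hmap : (LinearMap.ker ((f.rTensor N).baseChange B)).map
          (d₁ : B ⊗[A] (L ⊗[A] N) →ₗ[B] (B ⊗[A] L) ⊗[B] (B ⊗[A] N)) =
          LinearMap.ker ((f.baseChange B).rTensor (B ⊗[A] N)) := by
        ext x
        rw [Submodule.mem_map_equiv, LinearMap.mem_ker, LinearMap.mem_ker,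
          ← (AlgebraTensorModule.distribBaseChange A B F N).map_eq_zero_iff, distrib_natural,
          LinearEquiv.apply_symm_apply]
      exact ⟨(e1.baseChange A B).trans ((LinearMap.tensorKerEquiv B B (f.rTensor N)).trans
        ((d₁.submoduleMap _).trans ((LinearEquiv.ofEq _ _ hmap).trans e2.symm)))⟩
    · obtain ⟨e1⟩ := TorShiftLib.nonempty_shift_succ f g hf hg he N i
      obtain ⟨e2⟩ := TorShiftLib.nonempty_shift_succ (f.baseChange B) (g.baseChange B) hf' hg' he' (B ⊗[A] N) i
      obtain ⟨e3⟩ := ih L
      exact ⟨(e1.baseChange A B).trans (e3.trans e2.symm)⟩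

variable [IsLocalRing A] [IsLocalRing B] [IsLocalHom (algebraMap A B)]

/-- The multiplicity is multiplied by the length of the closed fibre. -/
theorem chi_baseChange (M N : Type u) [AddCommGroup M] [Module A M] [AddCommGroup N] [Module A N] :
    IntMult.chi B (B ⊗[A] M) (B ⊗[A] N) = IntMult.chi A M N *
      ((Module.length B (B ⧸ (IsLocalRing.maximalIdeal A).map (algebraMap A B))).toNat : ℤ) := by
  rw [IntMult.chi, IntMult.chi, finsum_mul]
  refine finsum_congr fun i => ?_
  obtain ⟨e⟩ := nonempty_tor_baseChange (A := A) B N i M
  rw [← e.length_eq, IsLocalRing.length_baseChange A B (DRing.Tor A i M N), ENat.toNat_mul, Nat.cast_mul, mul_assoc]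

end IntMultRegLib
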