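import Groth.Agent.IntMultRegLib.Algebra

/-!
# Additivity of the intersection number
-/

set_option autoImplicit false
set_option backward.isDefEq.respectTransparency false
set_option backward.isDefEq.respectTransparency.types false
set_option linter.style.haveILetI false

universe u

open CategoryTheory CategoryTheory.Limits MonoidalCategory HomologicalComplex KFlatLib Groth.Agent.DRingLib
open Groth.Agent.KoszChiLib (ell finLen_range ell_ker_range ell_ker_eq ell_of_equiv ell_eq_zero_of_subsingleton)

noncomputable section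

namespace IntMultRegLib

variable {R : Type u} [CommRing R]

/-- `Tor` is symmetric, as modules. -/
theorem nonempty_tor_comm (M N : Type u) [AddCommGroup M] [Module R M] [AddCommGroup N] [Module R N] (q : ℕ) :
    Nonempty (DRing.Tor R q M N ≃ₗ[R] DRing.Tor R q N M) := by
  rcases Nat.eq_zero_or_pos q with rfl | hq
  · obtain ⟨e⟩ := TorShiftLib.nonempty_tor_zero (R := R) (N := N) M
    obtain ⟨e'⟩ := TorShiftLib.nonempty_tor_zero (R := R) (N := M) N
    exact ⟨e ≪≫ₗ TensorProduct.comm R M N ≪≫ₗ e'.symm⟩
  · obtain ⟨q, rfl⟩ := Nat.exists_eq_add_one.2 hq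
    let P := projectiveResolution (ModuleCat.of R M)
    let Q := projectiveResolution (ModuleCat.of R N)
    obtain ⟨eb⟩ := KoszTorLib.nonempty_balance (isKFlat_projectiveResolution P) P.π' Q (-((q + 1 : ℕ) : ℤ))
    obtain ⟨ec⟩ := KoszTorLib.nonempty_cochain_homology (tensorLeft (ModuleCat.of R M)) Q q
    obtain ⟨ed⟩ := KoszTorLib.nonempty_cochain_homology (tensorLeft (ModuleCat.of R N)) P q
    let et := (Q.isoLeftDerivedObj (tensorLeft (ModuleCat.of R M)) (q + 1)).symm
    let es := (P.isoLeftDerivedObj (tensorLeft (ModuleCat.of R N)) (q + 1)).symm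
    let ef := (homologyFunctor (ModuleCat.{u} R) (ComplexShape.up ℤ) (-((q + 1 : ℕ) : ℤ))).mapIso
      ((NatIso.mapHomologicalComplex (BraidedCategory.tensorLeftIsoTensorRight (ModuleCat.of R N))
        (ComplexShape.up ℤ)).app P.cochainComplex)
    exact ⟨((eb ≪≫ ec ≪≫ et).symm ≪≫ ef.symm ≪≫ ed ≪≫ es).toLinearEquiv⟩

theorem tor_killed_left (M N : Type u) [AddCommGroup M] [Module R M] [AddCommGroup N] [Module R N] (i : ℕ)
    (a : R) (ha : ∀ x : M, a • x = 0) (y : DRing.Tor R i M N) : a • y = 0 := by
  let P := projectiveResolution (ModuleCat.of R N)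
  have h0 : a • 𝟙 (ModuleCat.of R M) = 0 := ModuleCat.hom_ext (LinearMap.ext ha)
  have h := TorRegLib.homologyMap_Gmap_smul P (ModuleCat.of R M) a i
  have hz : TorRegLib.Gmap P (a • 𝟙 (ModuleCat.of R M)) = 0 := by
    ext j : 1
    rw [TorRegLib.Gmap_smul_id]
    refine ModuleCat.hom_ext (LinearMap.ext fun z => ?_)
    show a • z = 0
    refine z.induction_on (smul_zero a) (fun m p => ?_) fun z w hz hw => (smul_add a z w).trans (by rw [hz, hw, add_zero])
    show (a • m) ⊗ₜ[R] p = 0
    rw [ha, TensorProduct.zero_tmul]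
  rw [hz, homologyMap_zero] at h
  let e := (P.isoLeftDerivedObj ((tensoringLeft (ModuleCat.{u} R)).obj (ModuleCat.of R M)) i).toLinearEquiv
  apply e.injective
  rw [map_smul, map_zero]
  exact (LinearMap.congr_fun (congrArg ModuleCat.Hom.hom h) (e y)).symm

theorem tor_killed (M N : Type u) [AddCommGroup M] [Module R M] [AddCommGroup N] [Module R N] (i : ℕ) :
    Module.annihilator R M ⊔ Module.annihilator R N ≤ Module.annihilator R (DRing.Tor R i M N) := by
  refine sup_le (fun a ha => Module.mem_annihilator.2 (tor_killed_left M N i a (Module.mem_annihilator.1 ha)))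
    fun a ha => Module.mem_annihilator.2 fun y => ?_
  obtain ⟨e⟩ := nonempty_tor_comm (R := R) M N i
  exact e.injective (by rw [map_smul, map_zero, tor_killed_left N M i a (Module.mem_annihilator.1 ha)])

theorem finite_tor [IsNoetherianRing R] (N : Type u) [AddCommGroup N] [Module R N] [Module.Finite R N] :
    ∀ (i : ℕ) (M : Type u) [AddCommGroup M] [Module R M] [Module.Finite R M],
      Module.Finite R (DRing.Tor R i M N) := by
  intro i
  induction i with
  | zero =>
    intro M _ _ _
    obtain ⟨e⟩ := TorShiftLib.nonempty_tor_zero (R := R) (N := N) M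
    exact Module.Finite.equiv e.symm
  | succ i ih =>
    intro M _ _ _
    obtain ⟨n, π, hπ⟩ := Module.Finite.exists_fin' R M
    obtain ⟨L, _, _, _, ι, hι, he⟩ : ∃ (L : Type u) (_ : AddCommGroup L) (_ : Module R L) (_ : Module.Finite R L)
        (ι : L →ₗ[R] (Fin n → R)), Function.Injective ι ∧ Function.Exact ι π :=
      ⟨LinearMap.ker π, inferInstance, inferInstance, inferInstance, Submodule.subtype _,
        Submodule.subtype_injective _, LinearMap.exact_subtype_ker_map π⟩
    rcases i with _ | i
    · obtain ⟨e⟩ := TorShiftLib.nonempty_shift_one ι π hι hπ he N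
      exact Module.Finite.equiv e.symm
    · obtain ⟨e⟩ := TorShiftLib.nonempty_shift_succ ι π hι hπ he N i
      haveI := ih L
      exact Module.Finite.equiv e.symm

/-- The primes common to both supports are maximal. -/
def Meet (M N : Type u) [AddCommGroup M] [Module R M] [AddCommGroup N] [Module R N] : Prop :=
  ∀ p : PrimeSpectrum R, Module.annihilator R M ⊔ Module.annihilator R N ≤ p.asIdeal → p.asIdeal.IsMaximal

theorem Meet.symm {M N : Type u} [AddCommGroup M] [Module R M] [AddCommGroup N] [Module R N]
    (h : Meet (R := R) M N) : Meet (R := R) N M := fun p hp => h p (by rwa [sup_comm])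

theorem Meet.mono {M M' N : Type u} [AddCommGroup M] [Module R M] [AddCommGroup M'] [Module R M']
    [AddCommGroup N] [Module R N] (h : Meet (R := R) M N)
    (hle : Module.annihilator R M ≤ Module.annihilator R M') : Meet (R := R) M' N :=
  fun p hp => h p ((sup_le_sup_right hle _).trans hp)

variable [IsNoetherianRing R]

theorem isFiniteLength_tor {M N : Type u} [AddCommGroup M] [Module R M] [Module.Finite R M] [AddCommGroup N]
    [Module R N] [Module.Finite R N] (h : Meet (R := R) M N) (i : ℕ) : IsFiniteLength R (DRing.Tor R i M N) := by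
  haveI := finite_tor (R := R) N i M
  let I := Module.annihilator R M ⊔ Module.annihilator R N
  let e := (Submodule.quotEquivOfEqBot (I • (⊤ : Submodule R (DRing.Tor R i M N)))
    (eq_bot_iff.2 (Submodule.smul_le.2 fun a ha y _ =>
      (Submodule.mem_bot R).2 (Module.mem_annihilator.1 (tor_killed M N i ha) y))))
  rw [← Module.length_ne_top_iff, ← e.length_eq]
  exact CommAlgDim.length_quotient_smul_ne_top fun p _ hpI => h p hpI

variable [IsLocalRing R] [IsRegularLocalRing R]

theorem subsingleton_tor_regular (M N : Type u) [AddCommGroup M] [Module R M] [Module.Finite R M] [AddCommGroup N]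
    [Module R N] (i : ℕ) (hi : (IsLocalRing.maximalIdeal R).spanFinrank < i) :
    Subsingleton (DRing.Tor R i M N) :=
  subsingleton_tor_of_pdlt N _ M (CommAlgDim.pdlt_of_isRegularLocalRing R M) i hi

/-- The intersection number is additive in the first variable. -/
theorem chi_additive {M₁ M₂ M₃ N : Type u} [AddCommGroup M₁] [Module R M₁] [Module.Finite R M₁]
    [AddCommGroup M₂] [Module R M₂] [Module.Finite R M₂] [AddCommGroup M₃] [Module R M₃] [Module.Finite R M₃]
    [AddCommGroup N] [Module R N] [Module.Finite R N] (f : M₁ →ₗ[R] M₂) (g : M₂ →ₗ[R] M₃)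
    (hf : Function.Injective f) (hg : Function.Surjective g) (he : Function.Exact f g)
    (h : Meet (R := R) M₂ N) : IntMult.chi R M₂ N = IntMult.chi R M₁ N + IntMult.chi R M₃ N := by
  let P := projectiveResolution (ModuleCat.of R N)
  let S : ShortComplex (ModuleCat.{u} R) :=
    ShortComplex.moduleCatMk f g (LinearMap.ext fun x => he.apply_apply_eq_zero x)
  have hS : S.ShortExact :=
    { exact := (ShortComplex.ShortExact.moduleCat_exact_iff_function_exact _).2 he
      mono_f := (ModuleCat.mono_iff_injective _).2 hf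
      epi_g := (ModuleCat.epi_iff_surjective _).2 hg }
  have hC := TorRegLib.cx_shortExact P S hS
  let a := fun i => (homologyMap (TorRegLib.cx P S).f i).hom
  let b := fun i => (homologyMap (TorRegLib.cx P S).g i).hom
  let δ := fun i => (hC.δ (i + 1) i (by simp)).hom
  have x1 : ∀ i, Function.Exact (δ i) (a i) := fun i =>
    (ShortComplex.ShortExact.moduleCat_exact_iff_function_exact _).1 (hC.homology_exact₁ (i + 1) i (by simp))
  have x2 : ∀ i, Function.Exact (a i) (b i) := fun i =>
    (ShortComplex.ShortExact.moduleCat_exact_iff_function_exact _).1 (hC.homology_exact₂ i)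
  have x3 : ∀ i, Function.Exact (b (i + 1)) (δ i) := fun i =>
    (ShortComplex.ShortExact.moduleCat_exact_iff_function_exact _).1 (hC.homology_exact₃ (i + 1) i (by simp))
  let e₁ := fun i => (P.isoLeftDerivedObj ((tensoringLeft (ModuleCat.{u} R)).obj (ModuleCat.of R M₁)) i).toLinearEquiv
  let e₂ := fun i => (P.isoLeftDerivedObj ((tensoringLeft (ModuleCat.{u} R)).obj (ModuleCat.of R M₂)) i).toLinearEquiv
  let e₃ := fun i => (P.isoLeftDerivedObj ((tensoringLeft (ModuleCat.{u} R)).obj (ModuleCat.of R M₃)) i).toLinearEquiv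
  have h1 : Meet (R := R) M₁ N := h.mono fun r hr => Module.mem_annihilator.2 fun x => hf (by
    rw [map_smul, Module.mem_annihilator.1 hr, map_zero])
  have h3 : Meet (R := R) M₃ N := h.mono fun r hr => Module.mem_annihilator.2 fun x => by
    obtain ⟨x, rfl⟩ := hg x
    rw [← map_smul, Module.mem_annihilator.1 hr, map_zero]
  have f1 := fun i => Groth.Agent.KoszChiLib.finLen_of_equiv (e₁ i) (isFiniteLength_tor h1 i)
  have f2 := fun i => Groth.Agent.KoszChiLib.finLen_of_equiv (e₂ i) (isFiniteLength_tor h i)
  have f3 := fun i => Groth.Agent.KoszChiLib.finLen_of_equiv (e₃ i) (isFiniteLength_tor h3 i)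
  let ra := fun i => ell R (LinearMap.range (a i))
  let rb := fun i => ell R (LinearMap.range (b i))
  let rd := fun i => ell R (LinearMap.range (δ i))
  have E1 : ∀ i, ell R (DRing.Tor R i M₁ N) = rd i + ra i := fun i => by
    refine (ell_of_equiv (e₁ i)).trans ?_
    exact (ell_ker_range (a i) (f1 i)).trans (congrArg (· + _) (ell_ker_eq (x1 i)))
  have E2 : ∀ i, ell R (DRing.Tor R i M₂ N) = ra i + rb i := fun i => by
    refine (ell_of_equiv (e₂ i)).trans ?_
    exact (ell_ker_range (b i) (f2 i)).trans (congrArg (· + _) (ell_ker_eq (x2 i)))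
  have E3 : ∀ i, ell R (DRing.Tor R (i + 1) M₃ N) = rb (i + 1) + rd i := fun i => by
    refine (ell_of_equiv (e₃ (i + 1))).trans ?_
    exact (ell_ker_range (δ i) (f3 (i + 1))).trans (congrArg (· + _) (ell_ker_eq (x3 i)))
  have hepi : Function.Surjective (b 0) := by
    intro y
    obtain ⟨t, rfl⟩ := (TorShiftLib.h0 P (ModuleCat.of R M₃)).toLinearEquiv.symm.surjective y
    obtain ⟨s, hs⟩ := LinearMap.rTensor_surjective N hg t
    refine ⟨(TorShiftLib.h0 P (ModuleCat.of R M₂)).toLinearEquiv.symm s,
      (TorShiftLib.h0 P (ModuleCat.of R M₃)).toLinearEquiv.injective ?_⟩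
    rw [LinearEquiv.apply_symm_apply]
    refine Eq.trans ?_ hs
    have hn := LinearMap.congr_fun (congrArg ModuleCat.Hom.hom
      (TorShiftLib.h0_naturality P (ModuleCat.ofHom g))) ((TorShiftLib.h0 P (ModuleCat.of R M₂)).toLinearEquiv.symm s)
    refine hn.trans ?_
    exact congrArg (g.rTensor N) ((TorShiftLib.h0 P (ModuleCat.of R M₂)).toLinearEquiv.apply_symm_apply s)
  have E30 : ell R (DRing.Tor R 0 M₃ N) = rb 0 := by
    refine (ell_of_equiv (e₃ 0)).trans ?_
    exact (ell_of_equiv (LinearEquiv.ofTop (LinearMap.range (b 0)) (LinearMap.range_eq_top.2 hepi))).symm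
  let D := (IsLocalRing.maximalIdeal R).spanFinrank
  have hchi : ∀ (M : Type u) [AddCommGroup M] [Module R M] [Module.Finite R M],
      IntMult.chi R M N = ∑ i ∈ Finset.range (D + 2), (-1 : ℤ) ^ i * ell R (DRing.Tor R i M N) := fun M _ _ _ => by
    refine finsum_eq_sum_of_support_subset _ fun i hi => ?_
    rw [Finset.coe_range, Set.mem_Iio]
    by_contra hlt
    haveI := subsingleton_tor_regular (R := R) M N i (by omega)
    refine hi ?_
    dsimp only
    rw [Module.length_eq_zero]
    simp
  have key : ∀ B : ℕ, ∑ i ∈ Finset.range (B + 1), (-1 : ℤ) ^ i *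
      (ell R (DRing.Tor R i M₁ N) + ell R (DRing.Tor R i M₃ N) - ell R (DRing.Tor R i M₂ N)) = (-1 : ℤ) ^ B * rd B := by
    intro B
    induction B with
    | zero => rw [Finset.sum_range_one, E1, E2, E30]; ring
    | succ B ih => rw [Finset.sum_range_succ, ih, E1, E2, E3, pow_succ]; ring
  have hlast : rd (D + 1) = 0 := by
    have h0 := E3 (D + 1)
    haveI := subsingleton_tor_regular (R := R) M₃ N (D + 1 + 1) (by omega)
    rw [ell_eq_zero_of_subsingleton] at h0
    have hr : 0 ≤ rb (D + 1 + 1) := Groth.Agent.KoszChiLib.ell_nonneg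
    have hd : 0 ≤ rd (D + 1) := Groth.Agent.KoszChiLib.ell_nonneg
    omega
  have hk := key (D + 1)
  rw [hlast, mul_zero] at hk
  simp only [mul_sub, mul_add, Finset.sum_sub_distrib, Finset.sum_add_distrib, ← hchi] at hk
  linarith

end IntMultRegLib
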